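import Cfsg.Agent.SUGen.Basic
import Cfsg.Agent.AutPSU.Torus

/-!
A subgroup containing the unipotent radical of a point and moving it to an opposite point is everything.
-/

set_option autoImplicit false

namespace Cfsg.Agent.SUGen

open Matrix Classical.Herm Cfsg.Agent.AutPSU

variable {n q : ℕ} {F : Type*} [Field F] [Fintype F] {σ : F →+* F} (hu : UCtx σ q) {e f w : Vn n F}
include hu

/-- All Eichler elements of a point. -/
def Rad (e : Vn n F) (H : Subgroup (Su n F q)) : Prop := ∀ a d, IsE σ e a d → eS hu e a d ∈ H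

theorem rad_of_move {H : Subgroup (Su n F q)} (hR : Rad hu e H) {h : Su n F q} (hh : h ∈ H) {c : F}
    (hc : c ≠ 0) (he : mat h *ᵥ e = c • f) : Rad hu f H := by
  intro a d hE
  have hif : mat h⁻¹ *ᵥ f = c⁻¹ • e := by
    have h1 := congrArg (mat h⁻¹ *ᵥ ·) he
    simp only [mat_inv_mulVec, Matrix.mulVec_smul] at h1
    rw [h1, smul_smul, inv_mul_cancel₀ hc, one_smul]
  have h2 := suConj hu h⁻¹ hE
  have hE' := hE.conjS hu h⁻¹
  rw [hif] at h2 hE'
  obtain ⟨e1, hE1⟩ := eS_scale hu c⁻¹ hE' (inv_ne_zero hc)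
  rw [e1] at h2
  have h3 := hR _ _ hE1
  rw [← h2, inv_inv] at h3
  have h4 := mul_mem (mul_mem hh h3) (inv_mem hh)
  simpa [mul_assoc] using h4

theorem to_line {H : Subgroup (Su n F q)} (H₀ : HP σ e f) (hR : Rad hu e H) {z : Vn n F} (hz : hB n σ z z = 0)
    (hez : hB n σ e z ≠ 0) : ∃ g ∈ H, ∃ l : F, l ≠ 0 ∧ mat g *ᵥ z = l • f := by
  set μ := hB n σ e z
  set z' := μ⁻¹ • z with hz'
  have hez' : hB n σ e z' = 1 := by rw [hz', map_smul, smul_eq_mul, inv_mul_cancel₀ hez]
  set d := hB n σ f z' with hd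
  set a := z' - f - d • e with ha
  have hW : InW σ e f a := by
    constructor <;> rw [ha] <;>
      simp only [map_sub, map_smul, smul_eq_mul, H₀.ee, H₀.ef, H₀.ff, H₀.fe hu, hez', ← hd] <;> ring
  have hdec : z' = f + a + d • e := by rw [ha]; abel
  have htr : d + σ d = -hB n σ a a := by
    have h0 : hB n σ z' z' = 0 := by rw [hz', smul_self (hu.isHerm n), hz, mul_zero]
    clear_value a
    rw [hdec] at h0
    simp only [map_add, map_smul, map_smulₛₗ, LinearMap.add_apply, LinearMap.smul_apply, smul_eq_mul,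
      RingHom.id_apply, H₀.ee, H₀.ef, H₀.ff, H₀.fe hu, hW.1, hW.2, InW.a_e hu hW, InW.a_f hu hW] at h0
    linear_combination h0
  refine ⟨(eS hu e a d)⁻¹, inv_mem (hR _ _ (H₀.isE hu hW htr)), μ, hez, ?_⟩
  have h1 : mat (eS hu e a d)⁻¹ *ᵥ z' = f := by
    rw [hdec, ← H₀.eS_f hu hW htr, mat_inv_mulVec]
  rw [show z = μ • z' by rw [hz', smul_smul, mul_inv_cancel₀ hez, one_smul], Matrix.mulVec_smul, h1]

theorem top_of_radical (hn : 3 ≤ n) (hq : ¬ (n = 3 ∧ q = 2)) {H : Subgroup (Su n F q)} (H₀ : HP σ e f) (hR : Rad hu e H)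
    {h : Su n F q} (hh : h ∈ H) {c : F} (hc : c ≠ 0) (he : mat h *ᵥ e = c • f) : H = ⊤ := by
  have hRf := rad_of_move hu hR hh hc he
  have H₁ : HP σ f e := ⟨H₀.ff, H₀.ee, H₀.fe hu⟩
  have hall : ∀ z : Vn n F, z ≠ 0 → hB n σ z z = 0 → ∃ g ∈ H, ∃ l : F, l ≠ 0 ∧ mat g *ᵥ z = l • e := by
    intro z hz0 hz
    have hcase : ∀ z : Vn n F, hB n σ z z = 0 → hB n σ f z ≠ 0 → ∃ g ∈ H, ∃ l : F, l ≠ 0 ∧ mat g *ᵥ z = l • e :=
      fun z hz hfz => to_line hu H₁ hRf hz hfz
    by_cases hfz : hB n σ f z = 0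
    · by_cases hez : hB n σ e z = 0
      · obtain ⟨y, hy⟩ := Classical.Herm.exists_pairing (hu.isHerm n) hz0
        set a := proj σ e f y with ha
        have hW := H₀.proj_mem hu y
        have hze : hB n σ z e = 0 := (eq_zero_comm (hu.isHerm n)).1 hez
        have hzf : hB n σ z f = 0 := (eq_zero_comm (hu.isHerm n)).1 hfz
        have haz : hB n σ a z = 1 := by
          rw [← (hu.isHerm n).symm, ha, proj_apply]
          simp [map_sub, map_smul, hy, hze, hzf]
        obtain ⟨d, hd⟩ := exists_d hu a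
        have hE := H₀.isE hu hW hd
        have hk : mat (eS hu e a d) *ᵥ z = z + (-1 : F) • e := by
          rw [eS_mulVec hu hE, hez, haz]; module
        obtain ⟨g, hg, l, hl, hgz⟩ := hcase (mat (eS hu e a d) *ᵥ z) (by rw [hB_mat hu]; exact hz) (by
          rw [hk, map_add, map_smul, hfz, H₀.fe hu]; simp)
        exact ⟨g * eS hu e a d, mul_mem hg (hR _ _ hE), l, hl, by rw [mat_mul_mulVec, hgz]⟩
      · obtain ⟨g, hg, l, hl, hgz⟩ := to_line hu H₀ hR hz hez
        refine ⟨h⁻¹ * g, mul_mem (inv_mem hh) hg, l * c⁻¹, mul_ne_zero hl (inv_ne_zero hc), ?_⟩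
        rw [mat_mul_mulVec, hgz, Matrix.mulVec_smul]
        have h1 := congrArg (mat h⁻¹ *ᵥ ·) he
        simp only [mat_inv_mulVec, Matrix.mulVec_smul] at h1
        rw [show mat h⁻¹ *ᵥ f = c⁻¹ • e by rw [h1, smul_smul, inv_mul_cancel₀ hc, one_smul], smul_smul]
    · exact hcase z hz hfz
  refine eq_top_iff.2 ((Classical.closure_unitaryTransvection hu.toIsInvol hu.pow hu.card_fix (by omega)
    hq).symm.le.trans ((Subgroup.closure_le _).2 ?_))
  rintro A ⟨v, x, hv, hA⟩
  obtain ⟨c', hc', hA'⟩ := Classical.transvection_mem_cases hu.toIsInvol hu.pow A hv hA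
  have : A = tr hu v c' := su_ext_mulVec fun y => by
    rw [tr_mulVec hu hv hc', ← Classical.suEquiv_apply hu.pow, hA']
    exact tvU_apply _ _ _
  rw [this]
  by_cases hv0 : v = 0
  · have : tr hu v c' = 1 := su_ext_mulVec fun y => by
      rw [tr_mulVec hu hv hc', hv0, mat_one_mulVec]; simp
    rw [this]; exact one_mem H
  obtain ⟨g, hg, l, hl, hgv⟩ := hall v hv0 hv
  have h1 := conj_tr hu g hv hc'
  rw [hgv, tr_smul hu H₀.ee hc'] at h1
  have h2 : tr hu e (l * σ l * c') ∈ H := hR _ _ (isE_zero H₀.ee (by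
    simp only [map_mul, hu.invol]; linear_combination l * σ l * hc'))
  rw [← h1] at h2
  have h3 := mul_mem (mul_mem (inv_mem hg) h2) hg
  simpa [mul_assoc] using h3

theorem rad_of_par (hn : n = 3) (T : Tri σ e f w) {H : Subgroup (Su n F q)} (hP : ∀ x, x ∈ par hu T H) :
    Rad hu e H := by
  intro a d hE
  have hea := hE.ea hu
  obtain ⟨x, hx⟩ := good_multiples hu hn T.hp T.inW
    (fun h0 => by simpa [h0] using T.ww) (T.hp.proj_mem hu a)
  have hdec : a = x • w + hB n σ f a • e := by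
    conv_lhs => rw [eq_proj (σ := σ) e f a, hx, hea]
    module
  set s := hB n σ f a
  have htr : (d + s - σ s) + σ (d + s - σ s) = -(σ x * x) := by
    have h2 := hE.tr
    rw [hdec] at h2
    simp only [map_add, map_smul, map_smulₛₗ, LinearMap.add_apply, LinearMap.smul_apply, smul_eq_mul,
      RingHom.id_apply, T.hp.ee, T.we hu, T.inW.1, T.ww] at h2
    simp only [map_add, map_sub, hu.invol]
    linear_combination h2
  rw [hdec, eS_shift hu s (T.isE hu htr)]
  exact all_of_par hu T hP htr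

end Cfsg.Agent.SUGen
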