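import Cfsg.Agent.SUGen.Pair
import Cfsg.Agent.SUGen.Top

/-!
SU₃ is generated by two conjugate regular unipotent elements.
-/

set_option autoImplicit false

namespace Cfsg.Agent.SUGen

open Matrix Classical.Herm Cfsg.Agent.AutPSU

variable {n q : ℕ} {F : Type*} [Field F] [Fintype F] {σ : F →+* F} (hu : UCtx σ q)
include hu

theorem exists_hp (hn : 2 ≤ n) : ∃ e f : Vn n F, HP σ e f := by
  have hH := hu.isHerm n
  obtain ⟨e, he0, he⟩ := Classical.Herm.exists_isotropic hH (by rw [Module.finrank_fin_fun]; exact hn)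
  obtain ⟨f, hf, hef⟩ := Classical.Herm.exists_hyp_partner hH he0 he
  exact ⟨e, f, he, hf, hef⟩

omit [Fintype F] hu in
theorem mat_sub_one_mulVec (u : Su n F q) (x : Vn n F) : (mat u - 1) *ᵥ x = mat u *ᵥ x - x := by
  rw [Matrix.sub_mulVec, Matrix.one_mulVec]

theorem regular_three (hn : n = 3) {e f w : Vn n F} (T : Tri σ e f w) {γ β : F} (hγ : γ ≠ 0)
    (hU : β + σ β = -(σ γ * γ)) :
    IsNilpotent (mat (eS hu e (γ • w) β) - 1) ∧ (mat (eS hu e (γ • w) β) - 1) ^ (n - 1) ≠ 0 := by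
  set u := eS hu e (γ • w) β with hu'
  have hco : ∀ X Y Z : F, (mat u - 1) *ᵥ (X • e + Y • w + Z • f) =
      (β * Z - σ γ * Y) • e + (γ * Z) • w + (0 : F) • f := fun X Y Z => by
    rw [mat_sub_one_mulVec, hu', T.mulVec hu hU]; module
  constructor
  · refine ⟨3, Matrix.ext_of_mulVec_single fun i => ?_⟩
    rw [Matrix.zero_mulVec]
    obtain ⟨Y, hY⟩ := good_multiples hu hn T.hp T.inW
      (fun h0 => by simpa [h0] using T.ww) (T.hp.proj_mem hu (Pi.single i 1))
    have hx : (Pi.single i 1 : Vn n F) =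
        hB n σ f (Pi.single i 1) • e + Y • w + hB n σ e (Pi.single i 1) • f := by
      conv_lhs => rw [eq_proj (σ := σ) e f (Pi.single i 1), hY]
      abel
    rw [hx, show (mat u - 1) ^ 3 = (mat u - 1) * ((mat u - 1) * (mat u - 1)) by rw [pow_succ', pow_two],
      ← Matrix.mulVec_mulVec, ← Matrix.mulVec_mulVec, hco, hco, hco]
    simp
  · intro h0
    subst hn
    have h1 := congrArg (fun M => M *ᵥ ((0 : F) • e + (0 : F) • w + (1 : F) • f)) h0
    simp only [show (3 : ℕ) - 1 = 2 from rfl, Matrix.zero_mulVec, pow_two] at h1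
    rw [← Matrix.mulVec_mulVec, hco, hco] at h1
    have h2 := congrArg (hB 3 σ f) h1
    simp only [map_add, map_smul, smul_eq_mul, T.inW.2, T.hp.ff, T.fe hu, map_zero, mul_zero, mul_one, zero_mul,
      add_zero, zero_sub] at h2
    exact mul_ne_zero ((map_ne_zero σ).2 hγ) hγ (neg_eq_zero.1 h2)

/-- The central parameter of a regular element changes by conjugation. -/
theorem exists_shift {e f w : Vn n F} (T : Tri σ e f w) {γ β₁ δ : F} (hγ : γ ≠ 0)
    (hb : β₁ + σ β₁ = -(σ γ * γ)) (hδ : δ + σ δ = 0) :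
    ∃ k : Su n F q, k * eS hu e (γ • w) (β₁ + δ) * k⁻¹ = eS hu e (γ • w) β₁ := by
  obtain ⟨t, ht⟩ := exists_trace hu.toIsInvol (a := (1 : F)) (map_one σ)
  obtain ⟨y, hy⟩ : ∃ y : F, γ * σ y = t * δ := ⟨σ (t * δ / γ), by rw [hu.invol]; field_simp⟩
  obtain ⟨dy, hdy⟩ : ∃ D : F, D + σ D = -(σ y * y) :=
    exists_trace hu.toIsInvol (by rw [map_neg, map_mul, hu.invol, mul_comm])
  have hE0 : (β₁ + δ) + σ (β₁ + δ) = -(σ γ * γ) := by rw [map_add]; linear_combination hb + hδ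
  refine ⟨eS hu e (y • w) dy, ?_⟩
  rw [suConj hu _ (T.isE hu hE0), Matrix.mulVec_smul]
  have he : mat (eS hu e (y • w) dy) *ᵥ e = e := eS_fix hu (T.isE hu hdy)
  have hw : mat (eS hu e (y • w) dy) *ᵥ w = w + (-σ y) • e := by
    rw [eS_mulVec hu (T.isE hu hdy), map_smulₛₗ, LinearMap.smul_apply, T.inW.1, T.ww, smul_eq_mul]
    module
  rw [he, hw, show γ • (w + (-σ y) • e) = γ • w + (-(γ * σ y)) • e by module]
  have hd : β₁ + δ + -(γ * σ y) - σ (-(γ * σ y)) = β₁ := by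
    simp only [hy, map_neg, map_mul]
    linear_combination (-δ) * ht + σ t * hδ
  rw [eS_shift hu _ (T.isE hu (by rw [hd]; exact hb)), hd]

theorem generated_three (hn : n = 3) (hq : 3 ≤ q) :
    ∃ u g : Su n F q, (IsNilpotent (mat u - 1) ∧ (mat u - 1) ^ (n - 1) ≠ 0) ∧
      Subgroup.closure ({u, g * u * g⁻¹} : Set (Su n F q)) = ⊤ := by
  obtain ⟨e, f, H₀⟩ := exists_hp hu (n := n) (by omega)
  obtain ⟨w, hww, hw, -⟩ := line_of_three hu hn H₀
  have T : Tri σ e f w := ⟨H₀, hw, hww⟩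
  obtain ⟨P⟩ := exists_params hu (n := n) hq
  obtain ⟨a₁, -, ha₁⟩ := exists_a hu P
  obtain ⟨β₁, δ, hb, hδ, hconf⟩ := config hu T P ha₁
  obtain ⟨k, hk⟩ := exists_shift hu T P.γ0 hb hδ
  set u := eS hu e (P.γ • w) (β₁ + δ)
  set v := eS hu f (a₁ • w) P.d
  refine ⟨u, v * k, regular_three hu hn T P.γ0 (by rw [map_add]; linear_combination hb + hδ), ?_⟩
  set H := Subgroup.closure ({u, v * k * u * (v * k)⁻¹} : Set (Su n F q))
  have hve : mat v *ᵥ e = e + a₁ • w + P.d • f := by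
    rw [show mat v *ᵥ e = mat v *ᵥ ((1 : F) • e + (0 : F) • w + (0 : F) • f) by congr 1; module,
      T.mulVec' hu ha₁]
    module
  have hvw : mat v *ᵥ w = w - σ a₁ • f := by
    rw [show mat v *ᵥ w = mat v *ᵥ ((0 : F) • e + (1 : F) • w + (0 : F) • f) by congr 1; module,
      T.mulVec' hu ha₁]
    module
  obtain ⟨hP, h, hh, hhe, -⟩ := hconf H v hve hvw (by
    rw [show v * eS hu e (P.γ • w) β₁ * v⁻¹ = v * k * u * (v * k)⁻¹ by rw [← hk]; simp [mul_assoc]]
    exact Subgroup.subset_closure (by simp)) (Subgroup.subset_closure (by simp [u]))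
  have hb0 : P.b ≠ 0 := by
    intro h0
    refine mat_mulVec_ne_zero h H₀.e_ne ?_
    rw [hhe, h0, zero_smul]
  exact top_of_radical hu (by omega) (by omega) H₀ (rad_of_par hu hn T hP) hh hb0 hhe

end Cfsg.Agent.SUGen
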