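import Cfsg.Agent.AutPSU.Frame
import Cfsg.Agent.AutPSU.Points

/-!
Eichler elements along a unit vector orthogonal to a hyperbolic pair: coordinates, words and parameters.
-/

set_option autoImplicit false

namespace Cfsg.Agent.SUGen

open Matrix Classical.Herm Cfsg.Agent.AutPSU

variable {n q : ℕ} {F : Type*} [Field F] {σ : F →+* F}

/-- A hyperbolic pair with a unit vector orthogonal to it. -/
structure Tri (σ : F →+* F) (e f w : Vn n F) : Prop where
  hp : HP σ e f
  inW : InW σ e f w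
  ww : hB n σ w w = 1

variable [Fintype F] (hu : UCtx σ q) {e f w : Vn n F}
include hu

theorem Tri.fe (T : Tri σ e f w) : hB n σ f e = 1 := T.hp.fe hu
theorem Tri.we (T : Tri σ e f w) : hB n σ w e = 0 := InW.a_e hu T.inW
theorem Tri.wf (T : Tri σ e f w) : hB n σ w f = 0 := InW.a_f hu T.inW

theorem Tri.symm (T : Tri σ e f w) : Tri σ f e w :=
  ⟨⟨T.hp.ff, T.hp.ee, T.fe hu⟩, ⟨T.inW.2, T.inW.1⟩, T.ww⟩

theorem Tri.isE (T : Tri σ e f w) {a b : F} (h : b + σ b = -(σ a * a)) : IsE σ e (a • w) b := by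
  refine ⟨T.hp.ee, ?_, ?_⟩
  · rw [map_smulₛₗ, LinearMap.smul_apply, T.we hu, smul_zero]
  · simp only [map_smul, map_smulₛₗ, LinearMap.smul_apply, T.ww, smul_eq_mul, RingHom.id_apply]
    linear_combination h

theorem Tri.mulVec (T : Tri σ e f w) {a b : F} (h : b + σ b = -(σ a * a)) (X Y Z : F) :
    mat (eS hu e (a • w) b) *ᵥ (X • e + Y • w + Z • f) =
      (X + b * Z - σ a * Y) • e + (Y + a * Z) • w + Z • f := by
  rw [eS_mulVec hu (T.isE hu h)]
  simp only [map_add, map_smul, map_smulₛₗ, LinearMap.smul_apply, smul_eq_mul, RingHom.id_apply,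
    T.hp.ee, T.hp.ef, T.inW.1, T.we hu, T.wf hu, T.ww]
  module

theorem Tri.mulVec' (T : Tri σ e f w) {a b : F} (h : b + σ b = -(σ a * a)) (X Y Z : F) :
    mat (eS hu f (a • w) b) *ᵥ (X • e + Y • w + Z • f) =
      X • e + (Y + a * X) • w + (Z + b * X - σ a * Y) • f := by
  have := (T.symm hu).mulVec hu h Z Y X
  rw [show Z • f + Y • w + X • e = X • e + Y • w + Z • f by abel] at this
  rw [this]; abel

theorem Tri.fix_perp (T : Tri σ e f w) {a b : F} (h : b + σ b = -(σ a * a)) {y : Vn n F}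
    (hy : hB n σ e y = 0) (hy' : hB n σ w y = 0) : mat (eS hu e (a • w) b) *ᵥ y = y := by
  rw [eS_mulVec hu (T.isE hu h), hy, map_smulₛₗ, LinearMap.smul_apply, hy']
  simp

omit hu in
/-- The parameter of the product. -/
theorem par_mul {a b a' b' : F} (h : b + σ b = -(σ a * a)) (h' : b' + σ b' = -(σ a' * a'))
    (hinv : ∀ x, σ (σ x) = x) :
    (b + b' - σ a * a') + σ (b + b' - σ a * a') = -(σ (a + a') * (a + a')) := by
  simp only [map_add, map_sub, map_mul, hinv]
  linear_combination h + h'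

theorem Tri.mul (T : Tri σ e f w) {a b a' b' : F} (h : b + σ b = -(σ a * a)) (h' : b' + σ b' = -(σ a' * a')) :
    eS hu e (a • w) b * eS hu e (a' • w) b' = eS hu e ((a + a') • w) (b + b' - σ a * a') := by
  rw [eS_mul hu (T.isE hu h) (T.isE hu h'), add_smul]
  congr 2
  simp only [map_smul, map_smulₛₗ, LinearMap.smul_apply, T.ww, smul_eq_mul, RingHom.id_apply]
  ring

theorem eS_inv {e a : Vn n F} {d : F} (h : IsE σ e a d) : (eS hu e a d)⁻¹ = eS hu e (-a) (σ d) := by
  have h' : IsE σ e (-a) (σ d) := ⟨h.ee, by rw [map_neg, LinearMap.neg_apply, h.ae, neg_zero], by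
    rw [hu.invol]; simp only [map_neg, LinearMap.neg_apply, neg_neg]; linear_combination h.tr⟩
  refine inv_eq_of_mul_eq_one_right ?_
  rw [eS_mul hu h h', add_neg_cancel, map_neg]
  convert eS_zero hu h.ee using 2
  linear_combination h.tr

theorem Tri.inv (T : Tri σ e f w) {a b : F} (h : b + σ b = -(σ a * a)) :
    (eS hu e (a • w) b)⁻¹ = eS hu e ((-a) • w) (σ b) := by
  rw [eS_inv hu (T.isE hu h), neg_smul]

/-- Absorbing the component along the centre. -/
theorem eS_shift {e a : Vn n F} {d : F} (s : F) (h : IsE σ e a (d + s - σ s)) :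
    eS hu e (a + s • e) d = eS hu e a (d + s - σ s) := by
  have hH := hu.isHerm n
  have h' : IsE σ e (a + s • e) d := by
    refine ⟨h.ee, ?_, ?_⟩
    · rw [map_add, LinearMap.add_apply, h.ae, map_smulₛₗ, LinearMap.smul_apply, h.ee, smul_zero, add_zero]
    · simp only [map_add, map_smul, map_smulₛₗ, LinearMap.add_apply, LinearMap.smul_apply, smul_eq_mul,
        RingHom.id_apply, h.ee, h.ae, h.ea hu, mul_zero, add_zero]
      have := h.tr
      simp only [map_add, map_sub, hu.invol] at this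
      linear_combination this
  refine su_ext_mulVec fun x => ?_
  rw [eS_mulVec hu h', eS_mulVec hu h]
  simp only [map_add, map_smulₛₗ, LinearMap.add_apply, LinearMap.smul_apply, smul_eq_mul]
  module

/-- Absorbing a scalar into the parameters. -/
theorem eS_scale {e a : Vn n F} {d : F} (l : F) (h : IsE σ (l • e) a d) (hl : l ≠ 0) :
    eS hu (l • e) a d = eS hu e (σ l • a) (l * σ l * d) ∧ IsE σ e (σ l • a) (l * σ l * d) := by
  have hH := hu.isHerm n
  have hsl : σ l ≠ 0 := (map_ne_zero σ).2 hl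
  have he : IsE σ e a d := by
    refine ⟨?_, ?_, h.tr⟩
    · have := h.ee
      rw [smul_self hH] at this
      exact (mul_eq_zero.1 this).resolve_left (mul_ne_zero hl hsl)
    · have := h.ae
      rw [map_smul, smul_eq_mul] at this
      exact (mul_eq_zero.1 this).resolve_left hl
  exact ⟨eS_smul hu he l, he.smul hu l⟩

/-- The parameters `x` with `eS (x w) d` in `H` for some `d`. -/
def par (T : Tri σ e f w) (H : Subgroup (Su n F q)) : AddSubgroup F where
  carrier := {x | ∃ d, d + σ d = -(σ x * x) ∧ eS hu e (x • w) d ∈ H}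
  zero_mem' := ⟨0, by simp, by rw [zero_smul, eS_zero hu T.hp.ee]; exact one_mem H⟩
  add_mem' := by
    rintro x y ⟨d, hd, hx⟩ ⟨d', hd', hy⟩
    exact ⟨_, par_mul hd hd' hu.invol, by rw [← T.mul hu hd hd']; exact mul_mem hx hy⟩
  neg_mem' := by
    rintro x ⟨d, hd, hx⟩
    refine ⟨σ d, by rw [hu.invol, map_neg]; linear_combination hd, ?_⟩
    rw [← T.inv hu hd]; exact inv_mem hx

/-- A torus like element of `H` multiplies the parameters. -/
theorem par_mul_mem (T : Tri σ e f w) {H : Subgroup (Su n F q)} {h : Su n F q} (hh : h ∈ H) {lam ρ s : F}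
    (hlam : lam ≠ 0) (he : mat h *ᵥ e = lam • e) (hw : mat h *ᵥ w = ρ • w + s • e) {x : F}
    (hx : x ∈ par hu T H) : σ lam * ρ * x ∈ par hu T H := by
  obtain ⟨d, hd, hx⟩ := hx
  have hm := mul_mem (mul_mem hh hx) (inv_mem hh)
  have hE := (T.isE hu hd).conjS hu h
  rw [suConj hu h (T.isE hu hd)] at hm
  rw [he, Matrix.mulVec_smul, hw] at hm hE
  obtain ⟨e1, hE1⟩ := eS_scale hu lam hE hlam
  rw [e1] at hm
  have hv : σ lam • x • (ρ • w + s • e) = (σ lam * ρ * x) • w + (σ lam * x * s) • e := by module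
  rw [hv] at hm hE1
  set r := σ lam * x * s
  set y := σ lam * ρ * x
  set D := lam * σ lam * d
  have htr : (D + r - σ r) + σ (D + r - σ r) = -(σ y * y) := by
    have h2 := hE1.tr
    simp only [map_add, map_smul, map_smulₛₗ, LinearMap.add_apply, LinearMap.smul_apply, smul_eq_mul,
      RingHom.id_apply, T.hp.ee, T.we hu, T.inW.1, T.ww, mul_zero, mul_one, add_zero] at h2
    simp only [map_add, map_sub, hu.invol]
    linear_combination h2
  exact ⟨_, htr, by rwa [← eS_shift hu r (T.isE hu htr)]⟩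

/-- All parameters give all elements, central ones included. -/
theorem all_of_par (T : Tri σ e f w) {H : Subgroup (Su n F q)} (h : ∀ x, x ∈ par hu T H) {x d : F}
    (hd : d + σ d = -(σ x * x)) : eS hu e (x • w) d ∈ H := by
  have hc : ∀ k : F, k + σ k = 0 → eS hu e ((0 : F) • w) k ∈ H := by
    intro k hk
    obtain ⟨t, ht⟩ := exists_trace hu.toIsInvol (a := (1 : F)) (map_one σ)
    set y := -(t * k) with hy
    obtain ⟨d₁, hd₁, h₁⟩ := h 1
    obtain ⟨d₂, hd₂, h₂⟩ := h y
    have hyk : σ y - y = k := by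
      rw [hy]; simp only [map_neg, map_mul]; linear_combination k * ht - σ t * hk
    have e₁ := T.mul hu hd₁ hd₂
    have e₂ := T.mul hu hd₂ hd₁
    have h0 : k + σ k = -(σ (0 : F) * 0) := by simpa using hk
    have e₃ := T.mul hu (par_mul hd₂ hd₁ hu.invol) h0
    have : eS hu e ((1 : F) • w) d₁ * eS hu e (y • w) d₂ =
        eS hu e (y • w) d₂ * eS hu e ((1 : F) • w) d₁ * eS hu e ((0 : F) • w) k := by
      rw [e₁, e₂, e₃, add_zero, mul_zero, sub_zero, add_comm y 1, map_one]
      congr 1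
      linear_combination hyk
    rw [eq_inv_mul_of_mul_eq this.symm]
    exact mul_mem (inv_mem (mul_mem h₂ h₁)) (mul_mem h₁ h₂)
  obtain ⟨d', hd', hx⟩ := h x
  have h0 : (d - d') + σ (d - d') = -(σ (0 : F) * 0) := by
    simp only [map_sub, map_zero, zero_mul, neg_zero]; linear_combination hd - hd'
  have e1 := T.mul hu hd' h0
  rw [add_zero, mul_zero, sub_zero, add_sub_cancel] at e1
  rw [← e1]
  exact mul_mem hx (hc _ (by simpa using h0))

/-- The word `V₁ U V₃` fixing the point of `e`. -/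
theorem word (T : Tri σ e f w) {H : Subgroup (Su n F q)} {a₁ b₁ a₃ b₃ γ β lam : F}
    (h₁ : b₁ + σ b₁ = -(σ a₁ * a₁)) (h₃ : b₃ + σ b₃ = -(σ a₃ * a₃)) (hU : β + σ β = -(σ γ * γ))
    (hb : b₃ = lam * σ b₁) (hg : a₃ + γ * b₃ = -(a₁ * lam)) (hl : 1 + β * b₃ - σ γ * a₃ = lam) (hlam : lam ≠ 0)
    (hm₁ : eS hu f (a₁ • w) b₁ ∈ H) (hm₃ : eS hu f (a₃ • w) b₃ ∈ H) (hm : eS hu e (γ • w) β ∈ H) {x : F}
    (hx : x ∈ par hu T H) :
    σ lam * (1 - γ * σ a₃ + a₁ * (-(β * σ a₃) - σ γ)) * x ∈ par hu T H := by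
  set h := eS hu f (a₁ • w) b₁ * eS hu e (γ • w) β * eS hu f (a₃ • w) b₃ with hh
  have he : mat h *ᵥ e = lam • e := by
    rw [show mat h *ᵥ e = mat h *ᵥ ((1 : F) • e + (0 : F) • w + (0 : F) • f) by congr 1; module,
      hh, mat_mul_mulVec, mat_mul_mulVec]
    rw [T.mulVec' hu h₃, T.mulVec hu hU, T.mulVec' hu h₁]
    match_scalars <;> simp only [mul_one, mul_zero, zero_add, add_zero, sub_zero] <;>
      first
        | linear_combination hl
        | linear_combination hg + a₁ * hl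
        | linear_combination hb + b₁ * hl - σ a₁ * hg + lam * h₁
  refine par_mul_mem hu T (mul_mem (mul_mem hm₁ hm) hm₃) (s := -(β * σ a₃) - σ γ) hlam he ?_ hx
  set Y := 1 - γ * σ a₃ + a₁ * (-(β * σ a₃) - σ γ)
  set X := -(β * σ a₃) - σ γ
  set Z := -σ a₃ + b₁ * X - σ a₁ * (1 - γ * σ a₃)
  have e1 : mat h *ᵥ w = X • e + Y • w + Z • f := by
    rw [show mat h *ᵥ w = mat h *ᵥ ((0 : F) • e + (1 : F) • w + (0 : F) • f) by congr 1; module,
      hh, mat_mul_mulVec, mat_mul_mulVec]
    rw [T.mulVec' hu h₃, T.mulVec hu hU, T.mulVec' hu h₁]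
    match_scalars <;> simp only [X, Y, Z] <;> ring
  have hZ : Z = 0 := by
    have h2 : hB n σ (mat h *ᵥ e) (mat h *ᵥ w) = hB n σ e w := hB_mat hu h e w
    rw [he, e1, T.inW.1] at h2
    simp only [map_add, map_smul, map_smulₛₗ, LinearMap.smul_apply, smul_eq_mul, RingHom.id_apply,
      T.hp.ee, T.hp.ef, T.inW.1, mul_zero, mul_one, zero_add] at h2
    rcases mul_eq_zero.1 h2 with h3 | h3
    · first | exact absurd h3 ((map_ne_zero σ).2 hlam) | exact h3
    · first | exact h3 | exact absurd h3 ((map_ne_zero σ).2 hlam)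
  rw [e1, hZ, zero_smul, add_zero, add_comm]

end Cfsg.Agent.SUGen
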