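import Cfsg.Agent.AutPSU.Frame

/-!
Elements generating a finite field with an involution.
-/

set_option autoImplicit false

namespace Cfsg.Agent.SUGen

open Classical.Herm Cfsg.Agent.AutPSU

variable {q : ℕ} {F : Type*} [Field F] [Fintype F] {σ : F →+* F} (hu : UCtx σ q)
include hu

theorem card_F : Fintype.card F = q ^ 2 := by
  rw [← Nat.card_eq_fintype_card, card_eq_fix_sq hu.toIsInvol, hu.card_fix]

omit hu in
theorem pow_card_iterate (K : Subfield F) {x : F} (hx : x ∈ K) : ∀ j : ℕ, x ^ (Nat.card K) ^ j = x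
  | 0 => by simp
  | j + 1 => by
    have h1 : x ^ Nat.card K = x := by
      haveI : Fintype K := Fintype.ofFinite K
      have := congrArg (fun z : K => (z : F)) (FiniteField.pow_card (⟨x, hx⟩ : K))
      rw [Nat.card_eq_fintype_card]
      simpa using this
    rw [pow_succ', pow_mul, h1, pow_card_iterate K hx j]

/-- A proper subfield containing an element moved by σ is the fixed field of an odd power. -/
theorem odd_root {K : Subfield F} {x : F} (hx : x ∈ K) (hσx : σ x ≠ x) (hK : K ≠ ⊤) :
    ∃ r j : ℕ, 2 ≤ r ∧ 1 ≤ j ∧ Nat.card K = r ^ 2 ∧ q = r ^ (2 * j + 1) := by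
  set d := Module.finrank K F
  have hcard : q ^ 2 = Nat.card K ^ d := by
    rw [← card_F hu, ← Nat.card_eq_fintype_card]
    exact Module.natCard_eq_pow_finrank
  have hk1 : 1 < Nat.card K := Finite.one_lt_card
  rcases Nat.even_or_odd d with ⟨j, hj⟩ | ⟨j, hj⟩
  · exfalso
    refine hσx ?_
    have h2 : q = Nat.card K ^ j := Nat.pow_left_injective (by norm_num : (2 : ℕ) ≠ 0) (by
      show q ^ 2 = (Nat.card K ^ j) ^ 2
      rw [hcard, hj, ← pow_mul]; ring_nf)
    rw [hu.pow, h2, pow_card_iterate K hx j]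
  · have hj1 : 1 ≤ j := by
      by_contra hc
      apply hK
      have : j = 0 := by omega
      subst this
      rw [hj, mul_zero, zero_add, pow_one] at hcard
      refine eq_top_iff.2 fun y _ => ?_
      have huniv : (K : Set F) = Set.univ := by
        refine Set.eq_of_subset_of_ncard_le (Set.subset_univ _) ?_ Set.finite_univ
        rw [Set.ncard_univ, ← Nat.card_coe_set_eq, Nat.card_eq_fintype_card, card_F hu, hcard]
        exact le_rfl
      have : y ∈ (K : Set F) := huniv ▸ Set.mem_univ y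
      exact this
    have hdvd : Nat.card K ^ j ∣ q := by
      rw [← Nat.pow_dvd_pow_iff (two_ne_zero : (2 : ℕ) ≠ 0), hcard, ← pow_mul]
      exact pow_dvd_pow _ (by omega)
    obtain ⟨r, hr⟩ := hdvd
    have hkr : Nat.card K = r ^ 2 := by
      have h0 : 0 < Nat.card K ^ (2 * j) := pow_pos (by omega) _
      refine Nat.eq_of_mul_eq_mul_left h0 ?_
      calc Nat.card K ^ (2 * j) * Nat.card K = Nat.card K ^ d := by rw [hj, pow_succ]
        _ = q ^ 2 := hcard.symm
        _ = _ := by rw [hr]; ring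
    refine ⟨r, j, ?_, hj1, hkr, ?_⟩
    · rcases Nat.lt_or_ge r 2 with h | h
      · exfalso
        interval_cases r <;> simp at hkr <;> omega
      · exact h
    · rw [hr, hkr]; ring

omit [Fintype F] hu in
theorem pow_iterate_mul {x : F} {k : ℕ} (hx : x ^ k = x) : ∀ j : ℕ, x ^ k ^ j = x
  | 0 => by simp
  | j + 1 => by rw [pow_succ', pow_mul, hx, pow_iterate_mul hx j]

theorem closure_eq_top {μ : F} (hσ : σ μ ≠ μ)
    (h : ∀ r j : ℕ, 2 ≤ r → 1 ≤ j → q = r ^ (2 * j + 1) → μ ^ r ^ 2 ≠ μ) :
    Subfield.closure {μ} = (⊤ : Subfield F) := by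
  by_contra hK
  obtain ⟨r, j, hr, hj, hcard, hq⟩ := odd_root hu (Subfield.subset_closure (Set.mem_singleton μ)) hσ hK
  have := pow_card_iterate (Subfield.closure {μ}) (Subfield.subset_closure (Set.mem_singleton μ)) 1
  rw [pow_one, hcard] at this
  exact h r j hr hj hq this

omit [Fintype F] in
/-- In an odd degree situation an element of norm one fixed by the square is killed by `r + 1`. -/
theorem pow_succ_of_fixed {x : F} (hx : x * σ x = 1) {r j : ℕ} (hq : q = r ^ (2 * j + 1))
    (hfix : x ^ r ^ 2 = x) : x ^ (r + 1) = 1 := by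
  have h1 : σ x = x ^ r := by
    rw [hu.pow, hq, show r ^ (2 * j + 1) = (r ^ 2) ^ j * r by rw [← pow_mul, pow_succ], pow_mul,
      pow_iterate_mul hfix j]
  rw [pow_succ', ← h1, hx]

theorem exists_norm_one : ∃ z : F, orderOf z = q + 1 ∧ z * σ z = 1 := by
  obtain ⟨g, hg⟩ := IsCyclic.exists_generator (α := Fˣ)
  have hq1 := hu.one_lt
  have hord : orderOf (g : F) = (q - 1) * (q + 1) := by
    rw [orderOf_units, orderOf_eq_card_of_forall_mem_zpowers hg, Nat.card_units, Nat.card_eq_fintype_card,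
      card_F hu, show q ^ 2 - 1 = (q + 1) * (q - 1) by simpa using Nat.sq_sub_sq q 1, mul_comm]
  refine ⟨(g : F) ^ (q - 1), ?_, ?_⟩
  · rw [orderOf_pow' _ (by omega), hord, Nat.gcd_eq_right (dvd_mul_right _ _), Nat.mul_div_cancel_left _ (by omega)]
  · rw [hu.pow, ← pow_succ', ← pow_mul, ← hord, pow_orderOf_eq_one]

/-- Criterion for odd characteristic. -/
theorem cube_inv_gen {z : F} (hz : orderOf z = q + 1) (hz1 : z * σ z = 1) (hq : Odd q) (hq3 : 3 ≤ q) (hq5 : q ≠ 5) :
    Subfield.closure {(z ^ 3)⁻¹} = (⊤ : Subfield F) := by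
  have h6 : z ^ 6 ≠ 1 := fun h => by
    have := Nat.le_of_dvd (by norm_num) (hz ▸ orderOf_dvd_of_pow_eq_one h)
    obtain ⟨k, hk⟩ := hq
    have h6' := hz ▸ orderOf_dvd_of_pow_eq_one h
    have : q ≤ 5 := by omega
    interval_cases q <;> omega
  have hz0 : z ≠ 0 := left_ne_zero_of_mul_eq_one hz1
  refine closure_eq_top hu (fun h => h6 ?_) fun r j hr hj hqr hfix => ?_
  · rw [map_inv₀, map_pow, inv_inj, show σ z = z⁻¹ from eq_inv_of_mul_eq_one_right hz1, inv_pow] at h
    rw [show (6 : ℕ) = 3 + 3 from rfl, pow_add]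
    nth_rewrite 1 [← h]
    exact inv_mul_cancel₀ (pow_ne_zero _ hz0)
  · have hμ : (z ^ 3)⁻¹ * σ (z ^ 3)⁻¹ = 1 := by
      rw [map_inv₀, map_pow, ← mul_inv, ← mul_pow, hz1, one_pow, inv_one]
    have h2 := pow_succ_of_fixed hu hμ hqr hfix
    rw [inv_pow, inv_eq_one, ← pow_mul] at h2
    have h3 := Nat.le_of_dvd (by omega) (hz ▸ orderOf_dvd_of_pow_eq_one h2)
    have h4 : r ^ 3 ≤ q := hqr ▸ Nat.pow_le_pow_right (by omega) (by omega)
    have hr3 : 3 ≤ r := by
      rcases Nat.lt_or_ge r 3 with h | h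
      · exfalso
        have : r = 2 := by omega
        subst this
        rw [hqr] at hq
        exact (Nat.not_even_iff_odd.2 hq) ((Nat.even_pow).2 ⟨even_two, by omega⟩)
      · exact h
    nlinarith [Nat.mul_le_mul_right r (Nat.mul_le_mul hr3 hr3)]

/-- Criterion for characteristic two. -/
theorem quad_gen (h2 : (2 : F) = 0) {z : F} (hz : orderOf z = q + 1) (hz1 : z * σ z = 1) (hq : 4 ≤ q)
    (hq8 : q ≠ 8) : Subfield.closure {(z ^ 3)⁻¹ + ((z ^ 3)⁻¹) ^ 2} = (⊤ : Subfield F) := by
  haveI : CharP F 2 := CharTwo.of_one_ne_zero_of_two_eq_zero one_ne_zero h2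
  have hz0 : z ≠ 0 := left_ne_zero_of_mul_eq_one hz1
  set y := (z ^ 3)⁻¹ with hy
  have hy0 : y ≠ 0 := inv_ne_zero (pow_ne_zero _ hz0)
  have hy1 : y * σ y = 1 := by
    rw [hy, map_inv₀, map_pow, ← mul_inv, ← mul_pow, hz1, one_pow, inv_one]
  refine closure_eq_top hu (fun h => ?_) fun r j hr hj hqr hfix => ?_
  · have hσy : σ y = y⁻¹ := eq_inv_of_mul_eq_one_right hy1
    rw [map_add, map_pow, hσy] at h
    have h3 : (y + 1) * (y ^ 3 + 1) = 0 := by
      field_simp at h
      linear_combination h + (y ^ 3 + y ^ 4) * h2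
    have h4 : y ^ 3 = 1 := by
      rcases mul_eq_zero.1 h3 with h5 | h5
      · rw [show y = -1 by linear_combination h5]; linear_combination -h2
      · linear_combination h5 - h2
    rw [hy, inv_pow, inv_eq_one, ← pow_mul] at h4
    have h5 := Nat.le_of_dvd (by norm_num) (hz ▸ orderOf_dvd_of_pow_eq_one h4)
    have h6 := hz ▸ orderOf_dvd_of_pow_eq_one h4
    have : q ≤ 8 := by omega
    interval_cases q <;> omega
  · have hc : ∀ a b : F, (a + b) ^ r ^ 2 = a ^ r ^ 2 + b ^ r ^ 2 := by
      intro a b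
      obtain ⟨p, m⟩ := FiniteField.card F 2
      have hr2 : ∃ t, r ^ 2 = 2 ^ t := by
        have hd : r ^ 2 ∣ 2 ^ (p : ℕ) := by
          rw [← m.2, card_F hu, hqr, ← pow_mul]
          exact pow_dvd_pow _ (by omega)
        obtain ⟨t, -, ht⟩ := (Nat.dvd_prime_pow Nat.prime_two).1 hd
        exact ⟨t, ht⟩
      obtain ⟨t, ht⟩ := hr2
      rw [ht, add_pow_char_pow]
    have hroot : (y ^ r ^ 2 - y) * (y ^ r ^ 2 - (y + 1)) = 0 := by
      rw [hc, ← pow_mul, mul_comm 2, pow_mul] at hfix
      linear_combination hfix + (y + y ^ 2 - y * y ^ r ^ 2 - y ^ r ^ 2) * h2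
    rcases mul_eq_zero.1 hroot with h1 | h1
    · have h3 := pow_succ_of_fixed hu hy1 hqr (sub_eq_zero.1 h1)
      rw [hy, inv_pow, inv_eq_one, ← pow_mul] at h3
      have h4 := Nat.le_of_dvd (by omega) (hz ▸ orderOf_dvd_of_pow_eq_one h3)
      have h5 : r ^ 3 ≤ q := hqr ▸ Nat.pow_le_pow_right (by omega) (by omega)
      rcases Nat.lt_or_ge r 3 with h | h
      · have hr2 : r = 2 := by omega
        subst hr2
        have : q ≤ 8 := by omega
        have : j = 1 := by
          by_contra hne
          have : 2 ^ 5 ≤ q := hqr ▸ Nat.pow_le_pow_right (by omega) (by omega)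
          omega
        subst this
        exact hq8 (by rw [hqr]; rfl)
      · nlinarith [Nat.mul_le_mul_right r (Nat.mul_le_mul h h)]
    · rw [sub_eq_zero] at h1
      have hodd : ∀ i : ℕ, y ^ (r ^ 2) ^ i = y + (i : F) := by
        intro i
        induction i with
        | zero => simp
        | succ i ih =>
          rw [pow_succ, pow_mul, ih, hc, h1]
          push_cast
          rcases Nat.even_or_odd i with hi | hi
          · rw [show (i : F) = 0 from (CharP.cast_eq_zero_iff F 2 i).2 (even_iff_two_dvd.1 hi),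
              zero_pow (by positivity)]
            ring
          · obtain ⟨k, rfl⟩ := hi
            push_cast
            rw [h2, zero_mul, zero_add, one_pow]
            ring
      have h3 := hodd (2 * j + 1)
      rw [← pow_mul, show 2 * (2 * j + 1) = (2 * j + 1) * 2 by ring, pow_mul, ← hqr, ← card_F hu,
        FiniteField.pow_card] at h3
      push_cast at h3
      rw [h2, zero_mul, zero_add] at h3
      exact one_ne_zero (left_eq_add.1 h3)

omit hu in
/-- An additive subgroup stable under a generator of the field is trivial or everything. -/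
theorem all_mem_of_gen {μ : F} (hμ : Subfield.closure {μ} = (⊤ : Subfield F)) (A : AddSubgroup F)
    (hstab : ∀ x ∈ A, μ * x ∈ A) {γ : F} (hγ : γ ≠ 0) (hγA : γ ∈ A) (x : F) : x ∈ A := by
  let S : Subring F :=
    { carrier := {r | ∀ y ∈ A, r * y ∈ A}
      mul_mem' := fun ha hb y hy => by rw [mul_assoc]; exact ha _ (hb _ hy)
      one_mem' := fun y hy => by rwa [one_mul]
      add_mem' := fun ha hb y hy => by rw [add_mul]; exact add_mem (ha _ hy) (hb _ hy)
      zero_mem' := fun y _ => by rw [zero_mul]; exact zero_mem A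
      neg_mem' := fun ha y hy => by rw [neg_mul]; exact neg_mem (ha _ hy) }
  have hinv : ∀ a ∈ S, a⁻¹ ∈ S := by
    intro a ha
    rcases eq_or_ne a 0 with rfl | h0
    · rwa [inv_zero]
    have : a⁻¹ = a ^ (Fintype.card F - 2) := by
      refine inv_eq_of_mul_eq_one_right ?_
      rw [← pow_succ', show Fintype.card F - 2 + 1 = Fintype.card F - 1 by
        have := Fintype.one_lt_card (α := F); omega, FiniteField.pow_card_sub_one_eq_one a h0]
    rw [this]
    exact pow_mem ha _
  let K : Subfield F := { S with inv_mem' := hinv }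
  have hK : K = ⊤ := eq_top_iff.2 (hμ ▸ Subfield.closure_le.2 fun y hy => by
    rw [Set.mem_singleton_iff] at hy
    subst hy
    exact hstab)
  have : x / γ ∈ K := hK ▸ Subfield.mem_top _
  have := this γ hγA
  rwa [div_mul_cancel₀ _ hγ] at this

end Cfsg.Agent.SUGen
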