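import Cfsg.Agent.SUGen.Basic
import Cfsg.Agent.SUGen.Field

/-!
Two Eichler elements with opposite centres generating a full root group, with parameters in the position of a
conjugate pair.
-/

set_option autoImplicit false

namespace Cfsg.Agent.SUGen

open Matrix Classical.Herm Cfsg.Agent.AutPSU

/-- Parameters `γ, β` (upper) and `a, b` (lower) with the parameter `d` of the conjugating element. -/
structure Params {q : ℕ} {F : Type*} [Field F] [Fintype F] {σ : F →+* F} (hu : UCtx σ q) (n : ℕ) where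
  γ : F
  β : F
  a : F
  b : F
  d : F
  γ0 : γ ≠ 0
  d0 : d + σ d ≠ 0
  hU : β + σ β = -(σ γ * γ)
  hL : b + σ b = -(σ a * a)
  ha : a * d = -(γ * (σ d * σ d))
  full : ∀ {e f w : Vn n F} (T : Tri σ e f w) (H : Subgroup (Su n F q)),
    eS hu e (γ • w) β ∈ H → eS hu f (a • w) b ∈ H → ∀ x, x ∈ par hu T H

variable {n q : ℕ} {F : Type*} [Field F] [Fintype F] {σ : F →+* F} (hu : UCtx σ q)
include hu

theorem Params.a0 (P : Params hu n) : P.a ≠ 0 := fun h => by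
  have hd : P.d ≠ 0 := fun h' => P.d0 (by rw [h', map_zero, add_zero])
  have := P.ha
  rw [h, zero_mul, zero_eq_neg] at this
  exact mul_ne_zero P.γ0 (mul_ne_zero ((map_ne_zero σ).2 hd) ((map_ne_zero σ).2 hd)) this

omit [Fintype F] in
/-- The norm condition of the middle element of a word. -/
theorem word_trace {a₁ b₁ a₃ b₃ γ β lam : F} (h₁ : b₁ + σ b₁ = -(σ a₁ * a₁)) (h₃ : b₃ + σ b₃ = -(σ a₃ * a₃))
    (hb : b₃ = lam * σ b₁) (hg : a₃ + γ * b₃ = -(a₁ * lam)) (hl : 1 + β * b₃ - σ γ * a₃ = lam) (h0 : b₃ ≠ 0) :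
    β + σ β = -(σ γ * γ) := by
  have hb' := congrArg σ hb
  have hg' := congrArg σ hg
  have hl' := congrArg σ hl
  simp only [map_add, map_sub, map_mul, map_neg, map_one, hu.invol] at hb' hg' hl'
  refine mul_left_cancel₀ (mul_ne_zero h0 ((map_ne_zero σ).2 h0)) ?_
  linear_combination σ b₃ * hl + b₃ * hl' + (σ γ * σ b₃ + σ a₃) * hg + (-(a₁ * lam)) * hg' + lam * hb' +
    σ lam * hb + lam * σ lam * h₁ - h₃

omit [Fintype F] in
/-- The middle eigenvalue of a word. -/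
theorem word_rho {a₁ b₁ a₃ b₃ γ β lam : F} (h₁ : b₁ + σ b₁ = -(σ a₁ * a₁)) (h₃ : b₃ + σ b₃ = -(σ a₃ * a₃))
    (hb : b₃ = lam * σ b₁) (hg : a₃ + γ * b₃ = -(a₁ * lam)) (hl : 1 + β * b₃ - σ γ * a₃ = lam) (h0 : b₃ ≠ 0) :
    (1 - γ * σ a₃ + a₁ * (-(β * σ a₃) - σ γ)) * lam = σ lam := by
  have hb' := congrArg σ hb
  have hg' := congrArg σ hg
  simp only [map_add, map_mul, map_neg, hu.invol] at hb' hg'
  have hX : (-(β * σ a₃) - σ γ) * b₃ = -(σ a₃ * lam + σ a₁ * σ lam) := by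
    refine mul_right_cancel₀ ((map_ne_zero σ).2 h0) ?_
    linear_combination -(σ a₃ * σ b₃) * hl + σ b₃ * hg' - σ γ * σ b₃ * h₃
  refine mul_right_cancel₀ (b := σ b₁) (fun h => h0 (by rw [hb, h, mul_zero])) ?_
  linear_combination (-(1 - γ * σ a₃ + a₁ * (-(β * σ a₃) - σ γ))) * hb + h₃ - hb' -
    σ lam * h₁ - σ a₃ * hg + a₁ * hX

theorem full_of_word {e f w : Vn n F} (T : Tri σ e f w) (H : Subgroup (Su n F q)) {a₁ b₁ a₃ b₃ γ β lam μ : F}
    (h₁ : b₁ + σ b₁ = -(σ a₁ * a₁)) (h₃ : b₃ + σ b₃ = -(σ a₃ * a₃))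
    (hb : b₃ = lam * σ b₁) (hg : a₃ + γ * b₃ = -(a₁ * lam)) (hl : 1 + β * b₃ - σ γ * a₃ = lam) (h0 : b₃ ≠ 0)
    (hμ : σ lam * σ lam = μ * lam) (hgen : Subfield.closure {μ} = (⊤ : Subfield F)) (hγ : γ ≠ 0)
    (hm₁ : eS hu f (a₁ • w) b₁ ∈ H) (hm₃ : eS hu f (a₃ • w) b₃ ∈ H) (hm : eS hu e (γ • w) β ∈ H) (x : F) :
    x ∈ par hu T H := by
  have hU := word_trace hu h₁ h₃ hb hg hl h0
  have hlam : lam ≠ 0 := fun h => h0 (by rw [hb, h, zero_mul])
  refine all_mem_of_gen hgen _ (fun y hy => ?_) hγ (show γ ∈ par hu T H from ⟨β, hU, hm⟩) x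
  have := word hu T h₁ h₃ hU hb hg hl hlam hm₁ hm₃ hm hy
  have hr := word_rho hu h₁ h₃ hb hg hl h0
  rwa [show σ lam * (1 - γ * σ a₃ + a₁ * (-(β * σ a₃) - σ γ)) = μ from
    mul_right_cancel₀ hlam (by linear_combination σ lam * hr + hμ)] at this

omit hu in
theorem cube_root_ne_one {z : F} {m : ℕ} (hz : orderOf z = m) {k : ℕ} (hk : 0 < k) (hkm : k < m) : z ^ k ≠ 1 :=
  fun h => absurd (Nat.le_of_dvd hk (hz ▸ orderOf_dvd_of_pow_eq_one h)) (by omega)

/-- Odd characteristic, `q ≠ 5`. -/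
theorem params_odd (hodd : Odd q) (h2 : (2 : F) ≠ 0) (hq : 3 ≤ q) (hq5 : q ≠ 5) : Nonempty (Params hu n) := by
  obtain ⟨z, hz, hz1⟩ := exists_norm_one hu
  have hz0 : z ≠ 0 := left_ne_zero_of_mul_eq_one hz1
  have hσz : σ z = z⁻¹ := eq_inv_of_mul_eq_one_right hz1
  have hzm : 1 + z ≠ 0 := fun h => by
    refine cube_root_ne_one hz (k := 2) (by omega) (by omega) ?_
    linear_combination (z - 1) * h
  obtain ⟨b, hb⟩ : ∃ x : F, x = 1 + z := ⟨_, rfl⟩
  have hσb : z * σ b = b := by rw [hb, map_add, map_one, hσz]; field_simp; ring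
  have hs : b + σ b ≠ 0 := fun h => by
    have h' : b * (1 + z) = 0 := by linear_combination z * h - hσb
    rcases mul_eq_zero.1 h' with h0 | h0
    · exact hzm (hb ▸ h0)
    · exact hzm h0
  obtain ⟨a, ha⟩ := Classical.Herm.exists_norm hu.toIsInvol (a := -(b + σ b)) (by
    rw [map_neg, map_add, hu.invol, add_comm])
  have hL : b + σ b = -(σ a * a) := by linear_combination ha
  obtain ⟨r, hr⟩ : ∃ x : F, x = b * σ b / (b + σ b) := ⟨_, rfl⟩
  have hσr : σ r = r := by rw [hr, map_div₀, map_mul, map_add, hu.invol, mul_comm, add_comm]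
  have hb0 : b ≠ 0 := hb ▸ hzm
  have hsb0 : σ b ≠ 0 := (map_ne_zero σ).2 hb0
  have hr0 : r ≠ 0 := hr ▸ div_ne_zero (mul_ne_zero hb0 hsb0) hs
  obtain ⟨γ, hγ⟩ : ∃ x : F, x = -(a * (b + σ b)) / (b * σ b) := ⟨_, rfl⟩
  have ha0 : a ≠ 0 := fun h => hs (by rw [hL, h, mul_zero, neg_zero])
  have hγ0 : γ ≠ 0 := hγ ▸ div_ne_zero (neg_ne_zero.2 (mul_ne_zero ha0 hs)) (mul_ne_zero hb0 hsb0)
  obtain ⟨β, hβ⟩ : ∃ x : F, x = (z - 1 + σ γ * a) / b := ⟨_, rfl⟩
  have hg : a + γ * b = -(a * z) := by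
    refine mul_right_cancel₀ hsb0 ?_
    have hγb : γ * (b * σ b) = -(a * (b + σ b)) := by rw [hγ, div_mul_cancel₀ _ (mul_ne_zero hb0 hsb0)]
    linear_combination hγb + a * hσb
  have hl : 1 + β * b - σ γ * a = z := by rw [hβ, div_mul_cancel₀ _ hb0]; ring
  refine ⟨⟨γ, β, a, b, r, hγ0, ?_, word_trace hu hL hL hσb.symm hg hl hb0, hL, ?_, fun T H hm hm' =>
    full_of_word hu T H hL hL hσb.symm hg hl hb0 (μ := (z ^ 3)⁻¹) ?_ (cube_inv_gen hu hz hz1 hodd hq hq5) hγ0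
      hm' hm' hm⟩⟩
  · rw [hσr, ← two_mul]; exact mul_ne_zero h2 hr0
  · rw [hσr, hγ, hr]; field_simp
  · rw [hσz]; field_simp

/-- Characteristic two, `q ≠ 8`. -/
theorem params_even (h2 : (2 : F) = 0) (hq : 4 ≤ q) (hq8 : q ≠ 8) : Nonempty (Params hu n) := by
  obtain ⟨z, hz, hz1⟩ := exists_norm_one hu
  have hz0 : z ≠ 0 := left_ne_zero_of_mul_eq_one hz1
  have hσz : σ z = z⁻¹ := eq_inv_of_mul_eq_one_right hz1
  have hzm : 1 + z ≠ 0 := fun h => by
    refine cube_root_ne_one hz (k := 2) (by omega) (by omega) ?_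
    linear_combination (z - 1) * h
  obtain ⟨d, hd⟩ : ∃ x : F, x = 1 + z := ⟨_, rfl⟩
  have hσd : z * σ d = d := by rw [hd, map_add, map_one, hσz]; field_simp; ring
  have hd0 : d ≠ 0 := hd ▸ hzm
  have hsd0 : σ d ≠ 0 := (map_ne_zero σ).2 hd0
  obtain ⟨b, hb⟩ : ∃ x : F, x = d ^ 2 / σ d := ⟨_, rfl⟩
  have hb0 : b ≠ 0 := hb ▸ div_ne_zero (pow_ne_zero _ hd0) hsd0
  have hσb' : σ b * d = σ d ^ 2 := by rw [hb, map_div₀, map_pow, hu.invol, div_mul_cancel₀ _ hd0]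
  have hbd : b * σ d = d ^ 2 := by rw [hb, div_mul_cancel₀ _ hsd0]
  have hσb : z ^ 3 * σ b = b := by
    refine mul_right_cancel₀ (mul_ne_zero hd0 hsd0) ?_
    linear_combination z ^ 3 * σ d * hσb' - d * hbd + (z ^ 2 * σ d ^ 2 + z * d * σ d + d ^ 2) * hσd
  have hx : z ^ 3 ≠ 1 := cube_root_ne_one hz (by omega) (by omega)
  have hsb0 : σ b ≠ 0 := (map_ne_zero σ).2 hb0
  have hs : b + σ b ≠ 0 := fun h => hx (by
    refine mul_right_cancel₀ hsb0 ?_
    linear_combination hσb + h - σ b * h2)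
  obtain ⟨a, ha⟩ := Classical.Herm.exists_norm hu.toIsInvol (a := -(b + σ b)) (by
    rw [map_neg, map_add, hu.invol, add_comm])
  have hL : b + σ b = -(σ a * a) := by linear_combination ha
  have ha0 : a ≠ 0 := fun h => hs (by rw [hL, h, mul_zero, neg_zero])
  obtain ⟨γ, hγ⟩ : ∃ x : F, x = a / σ b := ⟨_, rfl⟩
  have hγ0 : γ ≠ 0 := hγ ▸ div_ne_zero ha0 hsb0
  have hγb : γ * σ b = a := by rw [hγ, div_mul_cancel₀ _ hsb0]
  obtain ⟨b₃, hb₃⟩ : ∃ x : F, x = b + σ b := ⟨_, rfl⟩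
  have hb₃0 : b₃ ≠ 0 := hb₃ ▸ hs
  have h₃ : b₃ + σ b₃ = -(σ (0 : F) * 0) := by
    rw [hb₃, map_add, hu.invol, map_zero]; linear_combination (b + σ b) * h2
  obtain ⟨lam, hlam⟩ : ∃ x : F, x = 1 + z ^ 3 := ⟨_, rfl⟩
  obtain ⟨β, hβ⟩ : ∃ x : F, x = z ^ 3 / b₃ := ⟨_, rfl⟩
  have hbl : b₃ = lam * σ b := by rw [hb₃, hlam]; linear_combination -hσb
  have hg : 0 + γ * b₃ = -(a * lam) := by rw [hbl]; linear_combination lam * hγb + a * lam * h2
  have hl : 1 + β * b₃ - σ γ * 0 = lam := by rw [hβ, div_mul_cancel₀ _ hb₃0, hlam]; ring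
  refine ⟨⟨γ, β, a, b, d, hγ0, ?_, word_trace hu hL h₃ hbl hg hl hb₃0, hL, ?_, fun {e f w} T H hm hm' =>
    full_of_word hu T H hL h₃ hbl hg hl hb₃0 (μ := (z ^ 3)⁻¹ + ((z ^ 3)⁻¹) ^ 2) ?_ (quad_gen hu h2 hz hz1 hq hq8)
      hγ0 hm' ?_ hm⟩⟩
  · intro h
    refine hzm ?_
    have h' : d * (1 + z) = 0 := by linear_combination z * h - hσd
    rcases mul_eq_zero.1 h' with h0 | h0
    · exact hd ▸ h0
    · exact h0
  · linear_combination d * (-hγb) + γ * hσb' + γ * σ d * σ d * h2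
  · rw [hlam, map_add, map_one, map_pow, hσz, inv_pow]; field_simp; ring
  · have := mul_mem hm' hm'
    rw [(T.symm hu).mul hu hL hL] at this
    rwa [show a + a = 0 by linear_combination a * h2,
      show b + b - σ a * a = b₃ by rw [hb₃]; linear_combination -hL + b * h2] at this

omit hu in
theorem char_five (hF : Fintype.card F = 5 ^ 2) : (5 : F) = 0 := by
  have := FiniteField.cast_card_eq_zero F
  rw [hF] at this
  exact pow_eq_zero_iff (two_ne_zero : (2 : ℕ) ≠ 0) |>.1 (by exact_mod_cast this)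

/-- The case `q = 5`. -/
theorem params_five (hq : q = 5) : Nonempty (Params hu n) := by
  obtain ⟨z, hz, hz1⟩ := exists_norm_one hu
  have h5 := char_five (F := F) (by rw [card_F hu, hq])
  rw [hq] at hz
  have h2 : z ^ 2 - z + 1 = 0 := by
    have h3 : (z ^ 3 - 1) * (z + 1) * (z ^ 2 - z + 1) = 0 := by
      have h6 : z ^ 6 = 1 := by rw [show (6 : ℕ) = orderOf z from hz.symm, pow_orderOf_eq_one]
      linear_combination h6
    refine (mul_eq_zero.1 h3).resolve_left (mul_ne_zero ?_ ?_)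
    · exact sub_ne_zero.2 (cube_root_ne_one hz (by omega) (by omega))
    · intro h
      exact cube_root_ne_one hz (k := 2) (by omega) (by omega) (by linear_combination (z - 1) * h)
  have hσ : σ z = 1 - z := by
    rw [eq_inv_of_mul_eq_one_right hz1]
    exact (eq_inv_of_mul_eq_one_right (by linear_combination -h2)).symm
  have hc : ∀ k : ℕ, σ (k : F) = k := fun k => map_natCast σ k
  have h3' : σ (3 : F) = 3 := by exact_mod_cast hc 3
  have h2' : σ (2 : F) = 2 := by exact_mod_cast hc 2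
  have hL : (3 + 3 * z) + σ (3 + 3 * z) = -(σ (1 : F) * 1) := by
    simp only [map_add, map_mul, map_one, hσ, h3']; linear_combination 2 * h5
  have h4' : σ (4 : F) = 4 := by exact_mod_cast hc 4
  have h₃ : (1 + 4 * z) + σ (1 + 4 * z) = -(σ (3 : F) * 3) := by
    simp only [map_add, map_mul, map_one, hσ, h3', h4']; linear_combination 3 * h5
  have hb : (1 + 4 * z) = (3 + z) * σ (3 + 3 * z) := by
    simp only [map_add, map_mul, hσ, h3']; linear_combination 3 * h2 + (2 * z - 4) * h5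
  have hg : (3 : F) + (1 + 3 * z) * (1 + 4 * z) = -(1 * (3 + z)) := by
    linear_combination 12 * h2 + (4 * z - 1) * h5
  have hl : 1 + (3 + z) * (1 + 4 * z) - σ (1 + 3 * z) * 3 = 3 + z := by
    simp only [map_add, map_mul, map_one, hσ, h3']; linear_combination 4 * h2 + (5 * z - 3) * h5
  have h0 : (1 + 4 * z) ≠ 0 := fun h => one_ne_zero (α := F) (by
    linear_combination 16 * h2 - (4 * z - 5) * h - 4 * h5)
  have hγ0 : (1 + 3 * z) ≠ 0 := fun h => one_ne_zero (α := F) (by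
    linear_combination 2 * (9 * h2 - (3 * z - 4) * h) - 5 * h5)
  refine ⟨⟨1 + 3 * z, 3 + z, 1, 3 + 3 * z, 1 + 2 * z, hγ0, ?_, word_trace hu hL h₃ hb hg hl h0, hL, ?_,
    fun {e f w} T H hm hm' =>
      full_of_word hu T H hL h₃ hb hg hl h0 (μ := 1 + 3 * z) ?_ (closure_eq_top hu ?_ ?_) hγ0 hm' ?_ hm⟩⟩
  · simp only [map_add, map_mul, map_one, hσ, h2']
    exact fun h => one_ne_zero (α := F) (by linear_combination h5 - h)
  · simp only [map_add, map_mul, map_one, hσ, h2']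
    linear_combination 12 * z * h2 + (-4 * z ^ 2 + z + 2) * h5
  · simp only [map_add, hσ, h3']; linear_combination -2 * h2 + (3 - 4 * z) * h5
  · simp only [map_add, map_mul, map_one, hσ, h3']
    exact fun h => one_ne_zero (α := F) (by linear_combination 3 * (h2 + (z + 2) * (h + z * h5)) - 4 * h5)
  · intro r j hr hj hqr
    have := Nat.pow_le_pow_left hr (2 * j + 1)
    have : 2 ^ 3 ≤ 2 ^ (2 * j + 1) := Nat.pow_le_pow_right (by omega) (by omega)
    omega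
  · have h11 := mul_mem hm' hm'
    rw [(T.symm hu).mul hu hL hL] at h11
    have h111 := mul_mem h11 hm'
    rw [(T.symm hu).mul hu (par_mul hL hL hu.invol) hL] at h111
    rwa [show (1 : F) + 1 + 1 = 3 by norm_num,
      show (3 + 3 * z) + (3 + 3 * z) - σ (1 : F) * 1 + (3 + 3 * z) - σ ((1 : F) + 1) * 1 = 1 + 4 * z by
        simp only [map_add, map_one]; linear_combination (1 + z) * h5] at h111

/-- The case `q = 8`, by an explicit word. -/
theorem params_eight (h2 : (2 : F) = 0) (hq : q = 8) : Nonempty (Params hu n) := by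
  obtain ⟨z, hz, hz1⟩ := exists_norm_one hu
  rw [hq] at hz
  have h9 : z ^ 9 = 1 := by rw [show (9 : ℕ) = orderOf z from hz.symm, pow_orderOf_eq_one]
  have h6 : z ^ 6 + z ^ 3 + 1 = 0 := by
    have h : (z ^ 3 - 1) * (z ^ 6 + z ^ 3 + 1) = 0 := by linear_combination h9
    exact (mul_eq_zero.1 h).resolve_left (sub_ne_zero.2 (cube_root_ne_one hz (by omega) (by omega)))
  have hσz : σ z = z ^ 8 := by rw [hu.pow, hq]
  obtain ⟨b, hb⟩ : ∃ x : F, x = z + z ^ 2 + z ^ 3 + z ^ 5 := ⟨_, rfl⟩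
  obtain ⟨γ, hγ⟩ : ∃ x : F, x = z + z ^ 2 + z ^ 4 + z ^ 5 := ⟨_, rfl⟩
  obtain ⟨β, hβ⟩ : ∃ x : F, x = 1 + z + z ^ 4 + z ^ 5 := ⟨_, rfl⟩
  obtain ⟨d, hd⟩ : ∃ x : F, x = 1 + z + z ^ 2 := ⟨_, rfl⟩
  obtain ⟨t, ht⟩ : ∃ x : F, x = 1 + z ^ 2 + z ^ 3 := ⟨_, rfl⟩
  obtain ⟨μ, hμ⟩ : ∃ x : F, x = z ^ 2 + z ^ 4 + z ^ 5 := ⟨_, rfl⟩
  obtain ⟨k, hk⟩ : ∃ x : F, x = z + z ^ 2 + z ^ 5 := ⟨_, rfl⟩
  have sb : σ b = z ^ 8 + (z ^ 8) ^ 2 + (z ^ 8) ^ 3 + (z ^ 8) ^ 5 := by
    rw [hb, map_add, map_add, map_add, map_pow, map_pow, map_pow, hσz]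
  have sγ : σ γ = z ^ 8 + (z ^ 8) ^ 2 + (z ^ 8) ^ 4 + (z ^ 8) ^ 5 := by
    rw [hγ, map_add, map_add, map_add, map_pow, map_pow, map_pow, hσz]
  have sβ : σ β = 1 + z ^ 8 + (z ^ 8) ^ 4 + (z ^ 8) ^ 5 := by
    rw [hβ, map_add, map_add, map_add, map_pow, map_pow, map_one, hσz]
  have sd : σ d = 1 + z ^ 8 + (z ^ 8) ^ 2 := by rw [hd, map_add, map_add, map_pow, map_one, hσz]
  have st : σ t = 1 + (z ^ 8) ^ 2 + (z ^ 8) ^ 3 := by rw [ht, map_add, map_add, map_pow, map_pow, map_one, hσz]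
  have sk : σ k = z ^ 8 + (z ^ 8) ^ 2 + (z ^ 8) ^ 5 := by rw [hk, map_add, map_add, map_pow, map_pow, hσz]
  have sμ : σ μ = (z ^ 8) ^ 2 + (z ^ 8) ^ 4 + (z ^ 8) ^ 5 := by
    rw [hμ, map_add, map_add, map_pow, map_pow, map_pow, hσz]
  have hL : b + σ b = -(σ (1 : F) * 1) := by rw [map_one, sb, hb]; clear * - h6 h2; grind
  have hU : β + σ β = -(σ γ * γ) := by rw [sγ, sβ, hγ, hβ]; clear * - h6 h2; grind
  have hk0 : k = γ * σ γ := by rw [sγ, hγ, hk]; clear * - h6 h2; grind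
  have hγ0 : γ ≠ 0 := by intro h; rw [hγ] at h; clear * - h6 h2 h; grind
  refine ⟨⟨γ, β, 1, b, d, hγ0, ?_, hU, hL, ?_, fun {e f w} T H hm hm' x => ?_⟩⟩
  · intro h; rw [sd, hd] at h; clear * - h6 h2 h; grind
  · rw [sd, hγ, hd]; clear * - h6 h2; grind
  refine all_mem_of_gen (μ := μ) (closure_eq_top hu ?_ ?_) _ ?_ hγ0 (show γ ∈ par hu T H from ⟨β, hU, hm⟩) x
  · intro h
    rw [sμ, hμ] at h
    refine cube_root_ne_one hz (k := 5) (by omega) (by omega) (mul_left_cancel₀ (pow_ne_zero 2 (left_ne_zero_of_mul_eq_one hz1)) ?_)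
    linear_combination h + (-(z ^ 31) - z ^ 23 - z ^ 22 - z ^ 14 - z ^ 13 - z ^ 7 - z ^ 5 - z ^ 4) * h9
  · intro r j hr hj hqr h
    have h3 := Nat.pow_le_pow_left hr (2 * j + 1)
    have hj' : j = 1 := by
      by_contra hne
      have : 2 ^ 5 ≤ 2 ^ (2 * j + 1) := Nat.pow_le_pow_right (by omega) (by omega)
      omega
    subst hj'
    have hr2 : r = 2 := by
      by_contra hne
      have := Nat.pow_le_pow_left (show 3 ≤ r by omega) (2 * 1 + 1)
      omega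
    subst hr2
    rw [hμ] at h; clear * - h6 h2 h; grind
  intro y hy
  have hu2 : eS hu e ((0 : F) • w) k ∈ H := by
    have h := mul_mem hm hm
    rw [T.mul hu hU hU] at h
    rwa [show γ + γ = 0 by linear_combination γ * h2,
      show β + β - σ γ * γ = k by rw [hk0]; linear_combination (β - γ * σ γ) * h2] at h
  have h0 : k + σ k = -(σ (0 : F) * 0) := by rw [map_zero, sk, hk]; clear * - h6 h2; grind
  set h := eS hu f ((1 : F) • w) b * eS hu e (γ • w) β * eS hu f ((1 : F) • w) b * eS hu e ((0 : F) • w) k *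
    eS hu f ((1 : F) • w) b with hh
  have hhm : h ∈ H := mul_mem (mul_mem (mul_mem (mul_mem hm' hm) hm') hu2) hm'
  have st1 : σ (1 : F) = 1 := map_one σ
  have he : mat h *ᵥ ((1 : F) • e + (0 : F) • w + (0 : F) • f) = t • e := by
    rw [hh, mat_mul_mulVec, mat_mul_mulVec, mat_mul_mulVec, mat_mul_mulVec,
      T.mulVec' hu hL, T.mulVec hu h0, T.mulVec' hu hL, T.mulVec hu hU, T.mulVec' hu hL]
    simp only [map_zero, map_one, sγ]
    simp only [hγ, hβ, hb, hk]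
    match_scalars <;> (clear * - h6 h2 ht; grind)
  have hw : mat h *ᵥ ((0 : F) • e + (1 : F) • w + (0 : F) • f) = z • w + (0 : F) • e := by
    rw [hh, mat_mul_mulVec, mat_mul_mulVec, mat_mul_mulVec, mat_mul_mulVec,
      T.mulVec' hu hL, T.mulVec hu h0, T.mulVec' hu hL, T.mulVec hu hU, T.mulVec' hu hL]
    simp only [map_zero, map_one, sγ]
    simp only [hγ, hβ, hb, hk]
    match_scalars <;> (clear * - h6 h2; grind)
  rw [show (1 : F) • e + (0 : F) • w + (0 : F) • f = e by module] at he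
  rw [show (0 : F) • e + (1 : F) • w + (0 : F) • f = w by module] at hw
  have := par_mul_mem hu T hhm (by intro h; rw [ht] at h; clear * - h6 h2 h; grind) he hw hy
  rwa [show σ t * z = μ by rw [st, hμ]; clear * - h6 h2; grind] at this

/-- Parameters exist for every `q ≥ 3`. -/
theorem exists_params (hq : 3 ≤ q) : Nonempty (Params hu n) := by
  obtain ⟨p, hp⟩ := CharP.exists F
  obtain ⟨m, hp', hc⟩ := FiniteField.card F p
  have hqp : ∃ k, q = p ^ k := by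
    have hd : q ∣ p ^ (m : ℕ) := by
      rw [← hc, card_F hu]; exact dvd_pow_self q two_ne_zero
    obtain ⟨k, -, hk⟩ := (Nat.dvd_prime_pow hp').1 hd
    exact ⟨k, hk⟩
  obtain ⟨k, hk⟩ := hqp
  rcases hp'.eq_two_or_odd with rfl | hodd
  · have h2 : (2 : F) = 0 := by exact_mod_cast CharP.cast_eq_zero F 2
    have h4 : 4 ≤ q := by
      rcases Nat.lt_or_ge k 2 with h | h
      · interval_cases k <;> omega
      · exact hk ▸ (Nat.pow_le_pow_right (by omega) h : 2 ^ 2 ≤ 2 ^ k)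
    by_cases h8 : q = 8
    · exact params_eight hu h2 h8
    · exact params_even hu h2 h4 h8
  · by_cases h5 : q = 5
    · exact params_five hu h5
    · refine params_odd hu ?_ (fun h => ?_) hq h5
      · rw [hk]; exact Odd.pow (Nat.odd_iff.2 hodd)
      · have : p ∣ 2 := (CharP.cast_eq_zero_iff F p 2).1 (by exact_mod_cast h)
        have := Nat.le_of_dvd two_pos this
        have := hp'.two_le
        omega

end Cfsg.Agent.SUGen
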