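import Cfsg.Agent.SUGen.Data

/-!
An Eichler element and its conjugate by a unipotent element of a third point.
-/

set_option autoImplicit false

namespace Cfsg.Agent.SUGen

open Matrix Classical.Herm Cfsg.Agent.AutPSU

variable {n q : ℕ} {F : Type*} [Field F] [Fintype F] {σ : F →+* F} (hu : UCtx σ q) {e f w : Vn n F}
include hu

/-- All Eichler elements along `w` move the point with coordinates `(1, a, b)` to the opposite point. -/
theorem to_pt (T : Tri σ e f w) {H : Subgroup (Su n F q)} (hP : ∀ x, x ∈ par hu T H) {a b : F}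
    (hab : b + σ b = -(σ a * a)) (hb : b ≠ 0) :
    ∃ h ∈ H, mat h *ᵥ (e + a • w + b • f) = b • f ∧
      ∀ y, hB n σ e y = 0 → hB n σ w y = 0 → mat h *ᵥ y = y := by
  have hsb : σ b ≠ 0 := (map_ne_zero σ).2 hb
  have h1 : b⁻¹ + σ b⁻¹ = -(σ (a / b) * (a / b)) := by
    rw [map_inv₀, map_div₀]; field_simp; linear_combination hab
  have key : mat (eS hu e ((a / b) • w) b⁻¹) *ᵥ ((0 : F) • e + (0 : F) • w + b • f) = e + a • w + b • f := by
    rw [T.mulVec hu h1]
    match_scalars <;> field_simp <;> ring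
  refine ⟨(eS hu e ((a / b) • w) b⁻¹)⁻¹, inv_mem (all_of_par hu T hP h1), ?_, fun y hy hy' => ?_⟩
  · rw [← key, mat_inv_mulVec]; module
  · conv_lhs => rw [← T.fix_perp hu h1 hy hy', mat_inv_mulVec]

theorem exists_a (P : Params hu n) : ∃ a₁ : F, a₁ ≠ 0 ∧ P.d + σ P.d = -(σ a₁ * a₁) := by
  obtain ⟨a₁, ha⟩ := Classical.Herm.exists_norm hu.toIsInvol (a := -(P.d + σ P.d)) (by
    rw [map_neg, map_add, hu.invol, add_comm])
  refine ⟨a₁, fun h => P.d0 ?_, by linear_combination ha⟩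
  rw [h, zero_mul] at ha
  linear_combination ha

/-- The configuration of a conjugate pair. -/
theorem config (T : Tri σ e f w) (P : Params hu n) {a₁ : F} (ha₁ : P.d + σ P.d = -(σ a₁ * a₁)) :
    ∃ β₁ δ : F, β₁ + σ β₁ = -(σ P.γ * P.γ) ∧ δ + σ δ = 0 ∧
      ∀ (H : Subgroup (Su n F q)) (v : Su n F q),
        mat v *ᵥ e = e + a₁ • w + P.d • f → mat v *ᵥ w = w - σ a₁ • f →
        v * eS hu e (P.γ • w) β₁ * v⁻¹ ∈ H → eS hu e (P.γ • w) (β₁ + δ) ∈ H →
        (∀ x, x ∈ par hu T H) ∧ ∃ h ∈ H, mat h *ᵥ e = P.b • f ∧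
          ∀ y, hB n σ e y = 0 → hB n σ f y = 0 → hB n σ w y = 0 → mat h *ᵥ y = y := by
  obtain ⟨γ, β, a, b, d, hγ0, hd0, hU, hL, ha, full⟩ := P
  dsimp only at ha₁ ⊢
  have hd : d ≠ 0 := fun h => hd0 (by rw [h, map_zero, add_zero])
  have hsd : σ d ≠ 0 := (map_ne_zero σ).2 hd
  obtain ⟨s, hs⟩ : ∃ x : F, x = -(σ d * γ * σ a₁) := ⟨_, rfl⟩
  obtain ⟨c, hc⟩ : ∃ x : F, x = σ a₁ / σ d := ⟨_, rfl⟩
  obtain ⟨β₁, hβ₁⟩ : ∃ x : F, x = (b - s + σ s) / (d * σ d) := ⟨_, rfl⟩
  have hβ : d * σ d * β₁ + s - σ s = b := by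
    rw [hβ₁, mul_div_cancel₀ _ (mul_ne_zero hd hsd)]; ring
  have hβσ := congrArg σ hβ
  simp only [map_add, map_sub, map_mul, hu.invol] at hβσ
  have ha' := congrArg σ ha
  simp only [map_mul, map_neg, hu.invol] at ha'
  have hb1 : β₁ + σ β₁ = -(σ γ * γ) := by
    refine mul_left_cancel₀ (mul_ne_zero hd hsd) (mul_left_cancel₀ (mul_ne_zero hd hsd) ?_)
    linear_combination d * σ d * hβ + d * σ d * hβσ + d * σ d * hL - σ d * σ a * ha +
      σ d * σ d * γ * ha'
  refine ⟨β₁, β - (β₁ + γ * c - σ (γ * c)), hb1, ?_, fun H v hve hvw hX' hX => ?_⟩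
  · simp only [map_sub, map_add, map_mul, hu.invol]
    linear_combination hU - hb1
  set f' := d⁻¹ • (mat v *ᵥ e) with hf'
  set w' := w - c • e with hw'
  have hff : hB n σ (mat v *ᵥ e) (mat v *ᵥ e) = 0 := by rw [hB_mat hu]; exact T.hp.ee
  have T' : Tri σ e f' w' := by
    have hev : hB n σ e (mat v *ᵥ e) = d := by
      rw [hve]
      simp only [map_add, map_smul, smul_eq_mul, T.hp.ee, T.inW.1, T.hp.ef]
      ring
    have hvw' : hB n σ (mat v *ᵥ e) w = σ a₁ := by
      rw [hve]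
      simp only [map_add, map_smulₛₗ, LinearMap.add_apply, LinearMap.smul_apply, smul_eq_mul, T.inW.1,
        T.inW.2, T.ww]
      ring
    have hve' : hB n σ (mat v *ᵥ e) e = σ d := by rw [← (hu.isHerm n).symm, hev]
    refine ⟨⟨T.hp.ee, ?_, ?_⟩, ⟨?_, ?_⟩, ?_⟩
    · rw [hf', smul_self (hu.isHerm n), hff, mul_zero]
    · rw [hf', map_smul, smul_eq_mul, hev, inv_mul_cancel₀ hd]
    · rw [hw', map_sub, map_smul, smul_eq_mul, T.inW.1, T.hp.ee, mul_zero, sub_zero]
    · rw [hf', hw']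
      simp only [map_sub, map_smul, map_smulₛₗ, LinearMap.smul_apply, smul_eq_mul, RingHom.id_apply, hvw', hve', hc]
      field_simp
      ring
    · rw [hw']
      simp only [map_sub, map_smul, map_smulₛₗ, LinearMap.sub_apply, LinearMap.smul_apply, smul_eq_mul,
        RingHom.id_apply, T.hp.ee, T.we hu, T.inW.1, T.ww]
      ring
  have hsh : ∀ x D : F, D + σ D = -(σ x * x) →
      eS hu e (x • w) D = eS hu e (x • w') (D + x * c - σ (x * c)) := by
    intro x D hD
    have ht : (D + x * c - σ (x * c)) + σ (D + x * c - σ (x * c)) = -(σ x * x) := by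
      simp only [map_add, map_sub, hu.invol]; linear_combination hD
    rw [← eS_shift hu (x * c) (T'.isE hu ht)]
    congr 1
    rw [hw']; module
  have hm : eS hu e (γ • w') β ∈ H := by
    rw [hsh γ _ (by
      simp only [map_add, map_sub, map_mul, hu.invol]; linear_combination hU)] at hX
    convert hX using 2; ring
  have hE := (T.isE hu hb1).conjS hu v
  rw [suConj hu v (T.isE hu hb1), Matrix.mulVec_smul, hvw] at hX'
  rw [Matrix.mulVec_smul, hvw] at hE
  have hve2 : mat v *ᵥ e = d • f' := by rw [hf', smul_smul, mul_inv_cancel₀ hd, one_smul]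
  rw [hve2] at hX' hE
  obtain ⟨e1, hE1⟩ := eS_scale hu d hE hd
  rw [e1] at hX'
  have hv : σ d • γ • (w - σ a₁ • f) = a • w' + s • f' := by
    rw [hf', hve, hw', hc, hs]
    match_scalars
    · field_simp
      linear_combination γ * σ d * ha₁ - ha
    · field_simp
    · field_simp
      linear_combination σ a₁ * ha
  rw [hv] at hX'
  rw [eS_shift hu s ((T'.symm hu).isE hu (by rw [hβ]; exact hL)), hβ] at hX'
  have hP' : ∀ x, x ∈ par hu T' H := full T' H hm hX'
  have hP : ∀ x, x ∈ par hu T H := fun x => by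
    obtain ⟨D, hD⟩ : ∃ D : F, D + σ D = -(σ x * x) :=
      exists_trace hu.toIsInvol (by rw [map_neg, map_mul, hu.invol, mul_comm])
    refine ⟨D, hD, ?_⟩
    rw [hsh x D hD]
    exact all_of_par hu T' hP' (by simp only [map_add, map_sub, map_mul, hu.invol]; linear_combination hD)
  have hb0 : b ≠ 0 := by
    intro h
    have h1 : σ a * a = 0 := by
      have h2 := hL
      rw [h, map_zero, add_zero] at h2
      linear_combination h2
    have h3 : a = 0 := (mul_eq_zero.1 h1).elim (fun h' => (map_eq_zero σ).1 h') id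
    rw [h3, zero_mul, zero_eq_neg] at ha
    exact mul_ne_zero hγ0 (mul_ne_zero hsd hsd) ha
  obtain ⟨g₁, hg₁, hg₁e, hg₁y⟩ := to_pt hu T' hP' hL hb0
  obtain ⟨g₂, hg₂, hg₂e, hg₂y⟩ := to_pt hu T hP ha₁ hd
  refine ⟨hP, g₂ * g₁ * eS hu f' (a • w') b, mul_mem (mul_mem hg₂ hg₁) hX', ?_, fun y h1 h2 h3 => ?_⟩
  · have e2 : mat (eS hu f' (a • w') b) *ᵥ e = e + a • w' + b • f' := by
      rw [show mat (eS hu f' (a • w') b) *ᵥ e =
        mat (eS hu f' (a • w') b) *ᵥ ((1 : F) • e + (0 : F) • w' + (0 : F) • f') by congr 1; module,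
        T'.mulVec' hu hL]
      module
    rw [mat_mul_mulVec, mat_mul_mulVec, e2, hg₁e, hf', Matrix.mulVec_smul, Matrix.mulVec_smul, hve, hg₂e,
      smul_smul, smul_smul, inv_mul_cancel_right₀ hd]
  · have h4 : hB n σ w' y = 0 := by
      rw [hw', map_sub, LinearMap.sub_apply, map_smulₛₗ, LinearMap.smul_apply, h1, h3, smul_zero, sub_zero]
    have h5 : hB n σ f' y = 0 := by
      rw [hf', hve]
      simp only [map_add, map_smulₛₗ, LinearMap.add_apply, LinearMap.smul_apply, h1, h2, h3, smul_zero, add_zero]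
    rw [mat_mul_mulVec, mat_mul_mulVec, (T'.symm hu).fix_perp hu hL h5 h4, hg₁y y h1 h4, hg₂y y h1 h3]

end Cfsg.Agent.SUGen
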